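import Groth.Prelude.Def_W4bk4git07Quot
import Groth.Prelude.Def_AlgGrp
import Groth.Agent.S2913
import Mathlib.AlgebraicGeometry.PullbackCarrier

/-!
# A geometric quotient is a categorical quotient
-/

set_option autoImplicit false
set_option linter.style.haveILetI false
universe u

open CategoryTheory CategoryTheory.Limits MonoidalCategory CartesianMonoidalCategory AlgebraicGeometry Topology

noncomputable section

namespace Groth.Agent.GeomQuotCat

variable {S : Scheme.{u}} {G X Y : Over S} [GrpObj G] {a : AlgGrp.Action G X} {φ : X ⟶ Y}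

theorem epi_restrict (h : GIT.IsGeomQuot a φ) (U : Y.left.Opens) : Epi (φ.left ∣_ U) := by
  haveI : Surjective φ.left := ⟨h.surj⟩
  haveI : Surjective (φ.left ∣_ U) :=
    MorphismProperty.of_isPullback (isPullback_morphismRestrict φ.left U).flip inferInstance
  refine Groth.Agent.S2913.result _ fun V => ?_
  rw [morphismRestrict_app]
  intro x y hxy
  exact (h.sections (U.ι ''ᵁ V)).1 ((ConcreteCategory.bijective_of_isIso (X.left.presheaf.map (eqToHom (image_morphismRestrict_preimage φ.left U V)).op)).1 hxy)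

theorem epi_pullback_snd (h : GIT.IsGeomQuot a φ) {P : Scheme.{u}} (j : P ⟶ Y.left) [IsOpenImmersion j] :
    Epi (pullback.snd φ.left j) := by
  haveI := epi_restrict h j.opensRange
  have hP : IsPullback (φ.left ⁻¹ᵁ j.opensRange).ι (φ.left ∣_ j.opensRange ≫ j.isoOpensRange.inv) φ.left j :=
    (isPullback_morphismRestrict φ.left j.opensRange).flip.of_iso (Iso.refl _) (Iso.refl _) j.isoOpensRange.symm
      (Iso.refl _) (by simp) (by simp) (by simp) (by simp)
  haveI : Epi (φ.left ∣_ j.opensRange ≫ j.isoOpensRange.inv) := epi_comp _ _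
  rw [← hP.isoPullback_inv_snd]
  exact epi_comp _ _

theorem epi_left (h : GIT.IsGeomQuot a φ) : Epi φ.left := by
  haveI : Surjective φ.left := ⟨h.surj⟩
  exact Groth.Agent.S2913.result _ fun V => (h.sections V).1

theorem base_eq (h : GIT.IsGeomQuot a φ) {Z : Over S} (ψ : X ⟶ Z) (hψ : GIT.IsInvariant a ψ) (x x' : X.left)
    (hx : φ.left x = φ.left x') : ψ.left x = ψ.left x' := by
  obtain ⟨p, hp1, hp2⟩ := Scheme.Pullback.exists_preimage_pullback (f := φ.left) (g := φ.left) x x' hx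
  obtain ⟨z, hz⟩ := h.orbit p
  have h1 : a.act.left z = x := by
    rw [← hp1, ← hz, ← Scheme.Hom.comp_apply, GIT.PsiY, pullback.lift_fst]
  have h2 : (snd G X).left z = x' := by
    rw [← hp2, ← hz, ← Scheme.Hom.comp_apply, GIT.PsiY, pullback.lift_snd]
  rw [← h1, ← h2, ← Scheme.Hom.comp_apply, hψ.left, Scheme.Hom.comp_apply]

theorem isQuotientMap (h : GIT.IsGeomQuot a φ) : IsQuotientMap φ.left := by
  have := h.subm (𝟙 _) (𝟙 _) φ.left (IsPullback.id_vert φ.left)
  exact this

theorem exists_local (h : GIT.IsGeomQuot a φ) {Z : Over S} (ψ : X ⟶ Z) (hψ : GIT.IsInvariant a ψ)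
    {W : Z.left.Opens} (hW : IsAffineOpen W) (U : Y.left.Opens) (hUW : φ.left ⁻¹ᵁ U ≤ ψ.left ⁻¹ᵁ W) :
    ∃ g : (U : Scheme.{u}) ⟶ Z.left, (φ.left ∣_ U) ≫ g = (φ.left ⁻¹ᵁ U).ι ≫ ψ.left := by
  let r := ψ.left.appLE W (φ.left ⁻¹ᵁ U) hUW
  have hr : ∀ f, r f ∈ Set.range (φ.left.app U) := by
    intro f
    rw [(h.sections U).2]
    show GIT.IsInvSection a φ U (r f)
    unfold GIT.IsInvSection
    rw [← ConcreteCategory.comp_apply, ← ConcreteCategory.comp_apply, Scheme.Hom.appLE_comp_appLE,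
      Scheme.Hom.appLE_comp_appLE]
    congr 2
    simp only [hψ.left]
  choose s hs using hr
  let hh : Γ(Z.left, W) ⟶ Γ(Y.left, U) := CommRingCat.ofHom
    { toFun := s
      map_one' := (h.sections U).1 (by rw [hs, map_one, map_one])
      map_mul' := fun x y => (h.sections U).1 (by rw [hs, map_mul, map_mul, hs, hs])
      map_zero' := (h.sections U).1 (by rw [hs, map_zero, map_zero])
      map_add' := fun x y => (h.sections U).1 (by rw [hs, map_add, map_add, hs, hs]) }
  have hhr : hh ≫ φ.left.app U = r := by ext f; exact hs f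
  refine ⟨U.toSpecΓ ≫ Spec.map hh ≫ hW.fromSpec, ?_⟩
  rw [← Category.assoc, ← Scheme.Opens.toSpecΓ_naturality, Category.assoc, ← Spec.map_comp_assoc, hhr,
    ← Category.assoc, Scheme.Opens.toSpecΓ_SpecMap_appLE, Category.assoc, hW.toSpecΓ_fromSpec, Scheme.Hom.resLE_comp_ι]

theorem isCatQuot (h : GIT.IsGeomQuot a φ) : GIT.IsCatQuot a φ := by
  refine ⟨h.inv, fun Z ψ hψ => ?_⟩
  haveI : Surjective φ.left := ⟨h.surj⟩
  have hdesc : ∀ y : Y.left, ∃ z : Z.left, ∀ x, φ.left x = y → ψ.left x = z := fun y => by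
    obtain ⟨x₀, rfl⟩ := h.surj y
    exact ⟨ψ.left x₀, fun x hx => base_eq h ψ hψ x x₀ hx⟩
  choose c hc using hdesc
  have hcc : Continuous c := by
    rw [(isQuotientMap h).continuous_iff, show c ∘ φ.left = ψ.left from funext fun x => (hc _ x rfl).symm]
    exact ψ.left.continuous
  have hcov : ∀ y, ∃ (W : Z.left.Opens) (U : Y.left.Opens), IsAffineOpen W ∧ y ∈ U ∧ φ.left ⁻¹ᵁ U ≤ ψ.left ⁻¹ᵁ W := by
    intro y
    obtain ⟨_, ⟨W, hW, rfl⟩, hyW, -⟩ := Z.left.isBasis_affineOpens.exists_subset_of_mem_open (Set.mem_univ (c y)) isOpen_univ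
    refine ⟨W, ⟨c ⁻¹' (W : Set Z.left), W.2.preimage hcc⟩, hW, hyW, fun x hx => ?_⟩
    show ψ.left x ∈ W
    rw [hc _ x rfl]; exact hx
  choose W U hW hyU hUW using hcov
  choose g hg using fun y => exists_local h ψ hψ (hW y) (U y) (hUW y)
  have hspec : ∀ (y : Y.left) {T : Scheme.{u}} (t : T ⟶ X.left) (s : T ⟶ (U y : Scheme.{u}))
      (e : t ≫ φ.left = s ≫ (U y).ι), s ≫ g y = t ≫ ψ.left := by
    intro y T t s e
    have P := (isPullback_morphismRestrict φ.left (U y)).flip
    rw [← P.lift_snd t s e, Category.assoc, hg, P.lift_fst_assoc]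
  let 𝒰 : Y.left.OpenCover := Y.left.openCoverOfIsOpenCover U
    (TopologicalSpace.IsOpenCover.mk (eq_top_iff.2 fun y _ => TopologicalSpace.Opens.mem_iSup.2 ⟨y, hyU y⟩))
  let χ : Y.left ⟶ Z.left := 𝒰.glueMorphisms g fun y y' => by
    haveI := epi_pullback_snd h (pullback.fst (𝒰.f y) (𝒰.f y') ≫ 𝒰.f y)
    rw [← cancel_epi (pullback.snd φ.left (pullback.fst (𝒰.f y) (𝒰.f y') ≫ 𝒰.f y))]
    refine ((Category.assoc _ _ _).symm.trans (hspec y (pullback.fst φ.left _) (pullback.snd φ.left _ ≫ pullback.fst (𝒰.f y) (𝒰.f y'))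
      (pullback.condition.trans (Category.assoc _ _ _).symm))).trans ?_
    refine ((Category.assoc _ _ _).symm.trans (hspec y' (pullback.fst φ.left _) (pullback.snd φ.left _ ≫ pullback.snd (𝒰.f y) (𝒰.f y')) ?_)).symm
    exact (pullback.condition.trans (congrArg (_ ≫ ·) pullback.condition)).trans (Category.assoc _ _ _).symm
  haveI := epi_left h
  have hχ : φ.left ≫ χ = ψ.left := by
    refine Scheme.Cover.hom_ext (𝒰.pullback₁ φ.left) _ _ fun y => ?_
    show pullback.fst φ.left (𝒰.f y) ≫ φ.left ≫ χ = pullback.fst φ.left (𝒰.f y) ≫ ψ.left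
    rw [← Category.assoc, pullback.condition, Category.assoc, Scheme.Cover.ι_glueMorphisms]
    exact hspec y (pullback.fst _ _) (pullback.snd _ _) pullback.condition
  refine ⟨Over.homMk χ ?_, Over.OverMorphism.ext hχ, fun χ' hχ' => ?_⟩
  · show χ ≫ Z.hom = Y.hom
    rw [← cancel_epi φ.left, ← Category.assoc, hχ, Over.w, Over.w]
  · apply Over.OverMorphism.ext
    show χ'.left = χ
    rw [← cancel_epi φ.left, hχ, ← Over.comp_left, hχ']

end Groth.Agent.GeomQuotCat
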