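import Groth.Prelude.Def_W4bk4git07Quot
import Groth.Prelude.Def_AlgGrp
import Groth.Agent.S2913
import Mathlib.AlgebraicGeometry.PullbackCarrier

/-!
# A categorical quotient criterion by closed invariant subsets
-/

set_option autoImplicit false
set_option linter.style.haveILetI false
set_option backward.isDefEq.respectTransparency false
universe u

open CategoryTheory CategoryTheory.Limits MonoidalCategory CartesianMonoidalCategory AlgebraicGeometry Topology

noncomputable section

namespace Groth.Agent.GITClosedQuot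

variable {S : Scheme.{u}} {G X Y : Over S} [GrpObj G] {a : AlgGrp.Action G X} {φ : X ⟶ Y}

/-- The sheaf of functions on the base is the sheaf of invariant functions. -/
abbrev Sections (a : AlgGrp.Action G X) (φ : X ⟶ Y) : Prop := ∀ U : Y.left.Opens,
  Function.Injective (φ.left.app U) ∧ Set.range (φ.left.app U) = {f | GIT.IsInvSection a φ U f}

theorem epi_restrict (hsurj : Function.Surjective φ.left.base) (hsec : Sections a φ) (U : Y.left.Opens) : Epi (φ.left ∣_ U) := by
  haveI : Surjective φ.left := ⟨hsurj⟩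
  haveI : Surjective (φ.left ∣_ U) :=
    MorphismProperty.of_isPullback (isPullback_morphismRestrict φ.left U).flip inferInstance
  refine Groth.Agent.S2913.result _ fun V => ?_
  rw [morphismRestrict_app]
  intro x y hxy
  exact (hsec (U.ι ''ᵁ V)).1 ((ConcreteCategory.bijective_of_isIso (X.left.presheaf.map (eqToHom (image_morphismRestrict_preimage φ.left U V)).op)).1 hxy)

theorem epi_pullback_snd (hsurj : Function.Surjective φ.left.base) (hsec : Sections a φ) {P : Scheme.{u}} (j : P ⟶ Y.left) [IsOpenImmersion j] :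
    Epi (pullback.snd φ.left j) := by
  haveI := epi_restrict hsurj hsec j.opensRange
  have hP : IsPullback (φ.left ⁻¹ᵁ j.opensRange).ι (φ.left ∣_ j.opensRange ≫ j.isoOpensRange.inv) φ.left j :=
    (isPullback_morphismRestrict φ.left j.opensRange).flip.of_iso (Iso.refl _) (Iso.refl _) j.isoOpensRange.symm
      (Iso.refl _) (by simp) (by simp) (by simp) (by simp)
  haveI : Epi (φ.left ∣_ j.opensRange ≫ j.isoOpensRange.inv) := epi_comp _ _
  rw [← hP.isoPullback_inv_snd]
  exact epi_comp _ _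

theorem epi_left (hsurj : Function.Surjective φ.left.base) (hsec : Sections a φ) : Epi φ.left := by
  haveI : Surjective φ.left := ⟨hsurj⟩
  exact Groth.Agent.S2913.result _ fun V => (hsec V).1

theorem exists_local (hsec : Sections a φ) {Z : Over S} (ψ : X ⟶ Z) (hψ : GIT.IsInvariant a ψ)
    {W : Z.left.Opens} (hW : IsAffineOpen W) (U : Y.left.Opens) (hUW : φ.left ⁻¹ᵁ U ≤ ψ.left ⁻¹ᵁ W) :
    ∃ g : (U : Scheme.{u}) ⟶ Z.left, (φ.left ∣_ U) ≫ g = (φ.left ⁻¹ᵁ U).ι ≫ ψ.left := by
  let r := ψ.left.appLE W (φ.left ⁻¹ᵁ U) hUW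
  have hr : ∀ f, r f ∈ Set.range (φ.left.app U) := by
    intro f
    rw [(hsec U).2]
    show GIT.IsInvSection a φ U (r f)
    unfold GIT.IsInvSection
    rw [← ConcreteCategory.comp_apply, ← ConcreteCategory.comp_apply, Scheme.Hom.appLE_comp_appLE,
      Scheme.Hom.appLE_comp_appLE]
    congr 2
    simp only [hψ.left]
  choose s hs using hr
  let hh : Γ(Z.left, W) ⟶ Γ(Y.left, U) := CommRingCat.ofHom
    { toFun := s
      map_one' := (hsec U).1 (by rw [hs, map_one, map_one])
      map_mul' := fun x y => (hsec U).1 (by rw [hs, map_mul, map_mul, hs, hs])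
      map_zero' := (hsec U).1 (by rw [hs, map_zero, map_zero])
      map_add' := fun x y => (hsec U).1 (by rw [hs, map_add, map_add, hs, hs]) }
  have hhr : hh ≫ φ.left.app U = r := by ext f; exact hs f
  refine ⟨U.toSpecΓ ≫ Spec.map hh ≫ hW.fromSpec, ?_⟩
  rw [← Category.assoc, ← Scheme.Opens.toSpecΓ_naturality, Category.assoc, ← Spec.map_comp_assoc, hhr,
    ← Category.assoc, Scheme.Opens.toSpecΓ_SpecMap_appLE, Category.assoc, hW.toSpecΓ_fromSpec, Scheme.Hom.resLE_comp_ι]

theorem surjective_of_closed (hsec : Sections a φ) (hc : IsClosed (Set.range φ.left.base)) :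
    Function.Surjective φ.left.base := by
  intro y
  by_contra hy
  let U : Y.left.Opens := ⟨(Set.range φ.left.base)ᶜ, hc.isOpen_compl⟩
  have he : φ.left ⁻¹ᵁ U = ⊥ := eq_bot_iff.2 fun x hx => (hx ⟨x, rfl⟩).elim
  haveI : Subsingleton Γ(X.left, φ.left ⁻¹ᵁ U) := by rw [he]; infer_instance
  haveI : Subsingleton Γ(Y.left, U) := (hsec U).1.subsingleton
  have hyU : y ∈ U := hy
  haveI : Nontrivial (Y.left.presheaf.stalk y) := inferInstance
  have h01 := congrArg (Y.left.presheaf.germ U y hyU) (Subsingleton.elim (0 : Γ(Y.left, U)) 1)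
  rw [map_zero, map_one] at h01
  exact zero_ne_one h01

theorem isCatQuot (hi : GIT.IsInvariant a φ) (hsec : Sections a φ)
    (hiii : ∀ W : Set X.left, IsClosed W → a.act.left.base '' ((snd G X).left.base ⁻¹' W) ⊆ W →
      IsClosed (φ.left.base '' W))
    (hiii' : ∀ (J : Type u) (W : J → Set X.left),
      (∀ i, IsClosed (W i) ∧ a.act.left.base '' ((snd G X).left.base ⁻¹' W i) ⊆ W i) →
      φ.left.base '' (⋂ i, W i) = ⋂ i, φ.left.base '' W i) :
    GIT.IsCatQuot a φ ∧ IsQuotientMap φ.left.base := by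
  have hr : IsClosed (Set.range φ.left.base) := by
    rw [← Set.image_univ]; exact hiii _ isClosed_univ (Set.subset_univ _)
  have hsurj := surjective_of_closed hsec hr
  have hinv : ∀ {Z : Over S} (ψ : X ⟶ Z), GIT.IsInvariant a ψ → ∀ (C : Set Z.left),
      a.act.left.base '' ((snd G X).left.base ⁻¹' (ψ.left.base ⁻¹' C)) ⊆ ψ.left.base ⁻¹' C := by
    rintro Z ψ hψ C _ ⟨p, hp, rfl⟩
    show ψ.left (a.act.left p) ∈ C
    rw [← Scheme.Hom.comp_apply, hψ.left, Scheme.Hom.comp_apply]
    exact hp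
  refine ⟨⟨hi, fun Z ψ hψ => ?_⟩, isQuotientMap_iff_isClosed.2 ⟨hsurj, fun A => ⟨fun h => h.preimage φ.left.continuous, fun h => ?_⟩⟩⟩
  swap
  · have := hiii _ h (hinv φ hi A)
    rw [Set.image_preimage_eq _ hsurj] at this
    exact this
  haveI : Surjective φ.left := ⟨hsurj⟩
  have hcov : ∀ y, ∃ (W : Z.left.Opens) (U : Y.left.Opens), IsAffineOpen W ∧ y ∈ U ∧ φ.left ⁻¹ᵁ U ≤ ψ.left ⁻¹ᵁ W := by
    let W : Z.left.affineOpens → Set X.left := fun V => ψ.left.base ⁻¹' ((V.1 : Set Z.left))ᶜ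
    have hW : ∀ V, IsClosed (W V) ∧ a.act.left.base '' ((snd G X).left.base ⁻¹' W V) ⊆ W V := fun V =>
      ⟨V.1.2.isClosed_compl.preimage ψ.left.continuous, hinv ψ hψ _⟩
    have h0 : (⋂ V, W V) = ∅ := by
      refine Set.eq_empty_of_forall_notMem fun x hx => ?_
      obtain ⟨_, ⟨V, hV, rfl⟩, hxV, -⟩ :=
        Z.left.isBasis_affineOpens.exists_subset_of_mem_open (Set.mem_univ (ψ.left x)) isOpen_univ
      exact Set.mem_iInter.1 hx ⟨V, hV⟩ hxV
    intro y
    have hy : y ∉ ⋂ V, φ.left.base '' W V := by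
      rw [← hiii' _ W hW, h0, Set.image_empty]; exact id
    simp only [Set.mem_iInter, not_forall] at hy
    obtain ⟨V, hV⟩ := hy
    refine ⟨V.1, ⟨(φ.left.base '' W V)ᶜ, (hiii _ (hW V).1 (hW V).2).isOpen_compl⟩, V.2, hV, fun x hx => ?_⟩
    by_contra hx'
    exact hx ⟨x, hx', rfl⟩
  choose W U hW hyU hUW using hcov
  choose g hg using fun y => exists_local hsec ψ hψ (hW y) (U y) (hUW y)
  have hspec : ∀ (y : Y.left) {T : Scheme.{u}} (t : T ⟶ X.left) (s : T ⟶ (U y : Scheme.{u}))
      (e : t ≫ φ.left = s ≫ (U y).ι), s ≫ g y = t ≫ ψ.left := by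
    intro y T t s e
    have P := (isPullback_morphismRestrict φ.left (U y)).flip
    rw [← P.lift_snd t s e, Category.assoc, hg, P.lift_fst_assoc]
  let 𝒰 : Y.left.OpenCover := Y.left.openCoverOfIsOpenCover U
    (TopologicalSpace.IsOpenCover.mk (eq_top_iff.2 fun y _ => TopologicalSpace.Opens.mem_iSup.2 ⟨y, hyU y⟩))
  let χ : Y.left ⟶ Z.left := 𝒰.glueMorphisms g fun y y' => by
    haveI := epi_pullback_snd hsurj hsec (pullback.fst (𝒰.f y) (𝒰.f y') ≫ 𝒰.f y)
    rw [← cancel_epi (pullback.snd φ.left (pullback.fst (𝒰.f y) (𝒰.f y') ≫ 𝒰.f y))]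
    refine ((Category.assoc _ _ _).symm.trans (hspec y (pullback.fst φ.left _) (pullback.snd φ.left _ ≫ pullback.fst (𝒰.f y) (𝒰.f y'))
      (pullback.condition.trans (Category.assoc _ _ _).symm))).trans ?_
    refine ((Category.assoc _ _ _).symm.trans (hspec y' (pullback.fst φ.left _) (pullback.snd φ.left _ ≫ pullback.snd (𝒰.f y) (𝒰.f y')) ?_)).symm
    exact (pullback.condition.trans (congrArg (_ ≫ ·) pullback.condition)).trans (Category.assoc _ _ _).symm
  haveI := epi_left hsurj hsec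
  have hχ : φ.left ≫ χ = ψ.left := by
    refine Scheme.Cover.hom_ext (𝒰.pullback₁ φ.left) _ _ fun y => ?_
    show pullback.fst φ.left (𝒰.f y) ≫ φ.left ≫ χ = pullback.fst φ.left (𝒰.f y) ≫ ψ.left
    rw [← Category.assoc, pullback.condition, Category.assoc, Scheme.Cover.ι_glueMorphisms]
    exact hspec y (pullback.fst _ _) (pullback.snd _ _) pullback.condition
  refine ⟨Over.homMk χ ?_, Over.OverMorphism.ext hχ, fun χ' hχ' => ?_⟩
  · show χ ≫ Z.hom = Y.hom
    rw [← cancel_epi φ.left, ← Category.assoc, hχ, Over.w, Over.w]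
  · apply Over.OverMorphism.ext
    show χ'.left = χ
    rw [← cancel_epi φ.left, hχ, ← Over.comp_left, hχ']

end Groth.Agent.GITClosedQuot
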